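import Groth.Agent.CycLib28.PB.Ops.TensorFree
import Groth.Agent.CAlgH3.LocFreeFactor

/-!
# Extensions and tensor products of finite locally free modules of varying rank
-/

set_option autoImplicit false
set_option linter.style.haveILetI false
set_option backward.isDefEq.respectTransparency.types false

universe u

open AlgebraicGeometry CategoryTheory CategoryTheory.Limits
open Groth.Agent.Coherent Groth.Agent.PicLib Groth.Agent.AmpleLib

namespace Groth.Agent.ExtFilt28

variable {X : Scheme.{u}}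

/-- An extension of finite locally free modules is finite locally free. -/
theorem isFinLocFree_extension {S : ShortComplex X.Modules} (hex : S.ShortExact)
    (hK : FlatMod.IsFinLocFree S.X₁) (hF : FlatMod.IsFinLocFree S.X₃) : FlatMod.IsFinLocFree S.X₂ := by
  classical
  haveI : Coh.IsQCoh S.X₁ := CAlgH3.LocFreeFactor.isQCoh_of_finLocFree hK
  haveI : Coh.IsQCoh S.X₃ := CAlgH3.LocFreeFactor.isQCoh_of_finLocFree hF
  haveI : Coh.IsQCoh S.X₂ := isQCoh_X₂ hex
  intro x
  obtain ⟨V, a, hx, ⟨eK⟩⟩ := hK x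
  obtain ⟨V', c, hx', ⟨eF⟩⟩ := hF x
  obtain ⟨W, hW, hxW, hWV⟩ := TopologicalSpace.Opens.isBasis_iff_nbhd.1 X.isBasis_affineOpens
    (show x ∈ V ⊓ V' from ⟨hx, hx'⟩)
  obtain ⟨bK⟩ := Props12.exists_basis_sections eK (hWV.trans inf_le_left)
  obtain ⟨bF⟩ := Props12.exists_basis_sections eF (hWV.trans inf_le_right)
  let f := appLin S.f W
  let g := appLin S.g W
  have hf : Function.Injective f := sections_injective hex W
  have hg : Function.Surjective g := sections_surjective hex hW
  have hfg : Function.Exact f g := fun y => ⟨fun h => sections_exact hex y h, fun ⟨t, ht⟩ => ht ▸ sections_zero W t⟩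
  obtain ⟨l, hl⟩ : ∃ l : Γ(S.X₃, W) →ₗ[Γ(X, W)] Γ(S.X₂, W), g ∘ₗ l = LinearMap.id :=
    ⟨bF.constr ℕ fun k => (hg (bF k)).choose, bF.ext fun k => by
      rw [LinearMap.comp_apply, Module.Basis.constr_basis]; exact (hg (bF k)).choose_spec⟩
  let e : (Γ(S.X₁, W) × Γ(S.X₃, W)) ≃ₗ[Γ(X, W)] Γ(S.X₂, W) :=
    LinearEquiv.ofBijective (f.coprod l) ⟨(injective_iff_map_eq_zero _).2 fun z hz => by
        have h1 := congrArg g hz
        rw [LinearMap.coprod_apply, map_add, map_zero, hfg.apply_apply_eq_zero, zero_add,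
          show g (l z.2) = z.2 from LinearMap.congr_fun hl z.2] at h1
        rw [LinearMap.coprod_apply, h1, map_zero, add_zero] at hz
        exact Prod.ext ((map_eq_zero_iff f hf).1 hz) h1,
      fun y => by
        obtain ⟨t, ht⟩ := (hfg (y - l (g y))).1 (by
          rw [map_sub, show g (l (g y)) = g y from LinearMap.congr_fun hl (g y), sub_self])
        exact ⟨(t, g y), by rw [LinearMap.coprod_apply, ht, sub_add_cancel]⟩⟩
  exact ⟨W, a + c, hxW,
    CycLib28.PB.Ops.nonempty_restrict_iso_of_basis hW (((bK.prod bF).map e).reindex finSumFinEquiv)⟩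

/-- A tensor product of finite locally free modules is finite locally free. -/
theorem isFinLocFree_tensor {E F : X.Modules} (hE : FlatMod.IsFinLocFree E) (hF : FlatMod.IsFinLocFree F) :
    FlatMod.IsFinLocFree (CohB1.tensorMod E F) := by
  classical
  haveI := CAlgH3.LocFreeFactor.isQCoh_of_finLocFree hE
  haveI := CAlgH3.LocFreeFactor.isQCoh_of_finLocFree hF
  haveI := isQCoh_tensorMod E F
  intro x
  obtain ⟨V, r, hx, ⟨eE⟩⟩ := hE x
  obtain ⟨V', s, hx', ⟨eF⟩⟩ := hF x
  obtain ⟨W, hW, hxW, hWV⟩ := TopologicalSpace.Opens.isBasis_iff_nbhd.1 X.isBasis_affineOpens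
    (show x ∈ V ⊓ V' from ⟨hx, hx'⟩)
  obtain ⟨bE⟩ := Props12.exists_basis_sections eE (hWV.trans inf_le_left)
  obtain ⟨bF⟩ := Props12.exists_basis_sections eF (hWV.trans inf_le_right)
  exact ⟨W, r * s, hxW, CycLib28.PB.Ops.nonempty_restrict_iso_of_basis hW
    (((bE.tensorProduct bF).map (LinearEquiv.ofBijective (tmulMap E F W) (bijective_tmulMap hW E F))).reindex
      finProdFinEquiv)⟩

/-- Being finite locally free is invariant under isomorphism. -/
theorem isFinLocFree_congr {E F : X.Modules} (e : E ≅ F) (hE : FlatMod.IsFinLocFree E) : FlatMod.IsFinLocFree F :=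
  fun x => let ⟨U, n, hx, ⟨i⟩⟩ := hE x
    ⟨U, n, hx, ⟨((Scheme.Modules.restrictFunctor U.ι).mapIso e).symm ≪≫ i⟩⟩

end Groth.Agent.ExtFilt28
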