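import Groth.Agent.ExtFilt28.Alg
import Groth.Agent.GrassLib.PBundle.ExtBasis
import Groth.Agent.InjMod14.Kosz.AffineHom
import Groth.Agent.Coherent.TensorQcoh

/-!
# Wedge and projection maps between sheaves of exterior powers
-/

set_option autoImplicit false
set_option linter.style.haveILetI false
set_option backward.isDefEq.respectTransparency.types false
set_option maxHeartbeats 1000000

universe u

open CategoryTheory CategoryTheory.Limits AlgebraicGeometry Opposite TopologicalSpace TensorProduct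
open Groth.Agent.Coherent Groth.Agent.PicLib Groth.Agent.AmpleLib Groth.Agent.GrassLib.PBundle

namespace Groth.Agent.ExtFilt28

variable {X : Scheme.{u}}

/-- Compatibility of affine-local identifications with exterior powers. -/
def Compat {i : ℕ} {E L : X.Modules}
    (φ : ∀ U : X.affineOpens, (L.val.obj (op U.1)) ≃ₗ[Γ(X, U.1)] ↥(⋀[Γ(X, U.1)]^i (E.val.obj (op U.1)))) : Prop :=
  ∀ (U V : X.affineOpens) (h : V.1 ≤ U.1) (e : Fin i → E.val.obj (op U.1)),
    L.val.map (homOfLE h).op ((φ U).symm (exteriorPower.ιMulti _ i e)) =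
      (φ V).symm (exteriorPower.ιMulti _ i (fun j => E.val.map (homOfLE h).op (e j)))

theorem wedge_induction {q : ℕ} {E L : X.Modules}
    (φ : ∀ U : X.affineOpens, (L.val.obj (op U.1)) ≃ₗ[Γ(X, U.1)] ↥(⋀[Γ(X, U.1)]^q (E.val.obj (op U.1))))
    {A : X.affineOpens} {P : Γ(L, A.1) → Prop} (h0 : P 0) (hadd : ∀ a b, P a → P b → P (a + b))
    (hsmul : ∀ (r : Γ(X, A.1)) a, P a → P (r • a)) (hw : ∀ v : Fin q → Γ(E, A.1), P (wedge φ A v)) (a : Γ(L, A.1)) :
    P a := by
  obtain ⟨y, rfl⟩ : ∃ y, (φ A).symm y = a := (φ A).symm.surjective a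
  have hy : y ∈ Submodule.span Γ(X, A.1) (Set.range (exteriorPower.ιMulti Γ(X, A.1) q (M := E.val.obj (op A.1)))) := by
    rw [exteriorPower.ιMulti_span]; trivial
  induction hy using Submodule.span_induction with
  | mem y hy => obtain ⟨v, rfl⟩ := hy; exact hw v
  | zero => rw [map_zero]; exact h0
  | add a b _ _ ha hb => rw [map_add]; exact hadd _ _ ha hb
  | smul r a _ ha => rw [map_smul]; exact hsmul r _ ha

/-- The map on sections given by a morphism, in the exterior power format. -/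
noncomputable def secMap {E F : X.Modules} (f : E ⟶ F) (U : X.Opens) :
    (E.val.obj (op U)) →ₗ[Γ(X, U)] (F.val.obj (op U)) := appLin f U

/-- Tensors of sections on an affine open. -/
noncomputable def tmulEquiv (L M : X.Modules) [Coh.IsQCoh L] [Coh.IsQCoh M] (U : X.affineOpens) :
    ((L.val.obj (op U.1)) ⊗[Γ(X, U.1)] (M.val.obj (op U.1))) ≃ₗ[Γ(X, U.1)] Γ(CohB1.tensorMod L M, U.1) :=
  LinearEquiv.ofBijective (tmulMap L M U.1) (bijective_tmulMap U.2 L M)

theorem tmulEquiv_symm_tmul (L M : X.Modules) [Coh.IsQCoh L] [Coh.IsQCoh M] (U : X.affineOpens)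
    (a : Γ(L, U.1)) (b : Γ(M, U.1)) :
    (tmulEquiv L M U).symm (tmul a b) = ((show L.val.obj (op U.1) from a) ⊗ₜ[Γ(X, U.1)] (show M.val.obj (op U.1) from b)) :=
  (tmulEquiv L M U).symm_apply_eq.2 rfl

variable {E' E E'' : X.Modules} (f : E' ⟶ E) (g : E ⟶ E'') {i j n : ℕ} {L' Lj L Lj'' : X.Modules}
  [Coh.IsQCoh L'] [Coh.IsQCoh Lj] [Coh.IsQCoh Lj'']
  (φ' : ∀ U : X.affineOpens, (L'.val.obj (op U.1)) ≃ₗ[Γ(X, U.1)] ↥(⋀[Γ(X, U.1)]^i (E'.val.obj (op U.1))))
  (φj : ∀ U : X.affineOpens, (Lj.val.obj (op U.1)) ≃ₗ[Γ(X, U.1)] ↥(⋀[Γ(X, U.1)]^j (E.val.obj (op U.1))))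
  (φ : ∀ U : X.affineOpens, (L.val.obj (op U.1)) ≃ₗ[Γ(X, U.1)] ↥(⋀[Γ(X, U.1)]^n (E.val.obj (op U.1))))
  (φj'' : ∀ U : X.affineOpens, (Lj''.val.obj (op U.1)) ≃ₗ[Γ(X, U.1)] ↥(⋀[Γ(X, U.1)]^j (E''.val.obj (op U.1))))

/-- Sections of the wedge map. -/
noncomputable def muSec (h : i + j = n) (U : X.affineOpens) :
    Γ(CohB1.tensorMod L' Lj, U.1) →ₗ[Γ(X, U.1)] Γ(L, U.1) :=
  (φ U).symm.toLinearMap.comp ((mu (secMap f U.1) h).comp
    ((TensorProduct.map (φ' U).toLinearMap (φj U).toLinearMap).comp (tmulEquiv L' Lj U).symm.toLinearMap))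

theorem muSec_wedge (h : i + j = n) (U : X.affineOpens) (a : Fin i → Γ(E', U.1)) (b : Fin j → Γ(E, U.1)) :
    muSec f φ' φj φ h U (tmul (wedge φ' U a) (wedge φj U b)) =
      wedge φ U (Fin.append (fun k => f.app U.1 (a k)) b ∘ Fin.cast h.symm) := by
  show (φ U).symm (mu (secMap f U.1) h (TensorProduct.map (φ' U).toLinearMap (φj U).toLinearMap
    ((tmulEquiv L' Lj U).symm (tmul (wedge φ' U a) (wedge φj U b))))) = _
  rw [tmulEquiv_symm_tmul, TensorProduct.map_tmul, LinearEquiv.coe_coe, LinearEquiv.coe_coe]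
  simp only [wedge, LinearEquiv.apply_symm_apply]
  exact congrArg (φ U).symm (mu_ιMulti _ h _ _)

/-- Sections of the projection map. -/
noncomputable def projSec (U : X.affineOpens) :
    Γ(CohB1.tensorMod L' Lj, U.1) →ₗ[Γ(X, U.1)] Γ(CohB1.tensorMod L' Lj'', U.1) :=
  (tmulEquiv L' Lj'' U).toLinearMap.comp ((TensorProduct.map (φ' U).symm.toLinearMap (φj'' U).symm.toLinearMap).comp
    ((proj (secMap g U.1) i j).comp
      ((TensorProduct.map (φ' U).toLinearMap (φj U).toLinearMap).comp (tmulEquiv L' Lj U).symm.toLinearMap)))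

theorem projSec_wedge (U : X.affineOpens) (a : Fin i → Γ(E', U.1)) (b : Fin j → Γ(E, U.1)) :
    projSec g φ' φj φj'' U (tmul (wedge φ' U a) (wedge φj U b)) =
      tmul (wedge φ' U a) (wedge φj'' U fun k => g.app U.1 (b k)) := by
  show tmulMap L' Lj'' U.1 (TensorProduct.map (φ' U).symm.toLinearMap (φj'' U).symm.toLinearMap
    (proj (secMap g U.1) i j (TensorProduct.map (φ' U).toLinearMap (φj U).toLinearMap
      ((tmulEquiv L' Lj U).symm (tmul (wedge φ' U a) (wedge φj U b)))))) = _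
  rw [tmulEquiv_symm_tmul, TensorProduct.map_tmul, LinearEquiv.coe_coe, LinearEquiv.coe_coe]
  simp only [proj, wedge, LinearEquiv.apply_symm_apply]
  rw [TensorProduct.map_tmul, TensorProduct.map_tmul, exteriorPower.map_apply_ιMulti]
  rfl

theorem hom_of_wedges {M : X.Modules}
    (F : ∀ U : X.affineOpens, Γ(CohB1.tensorMod L' Lj, U.1) →ₗ[Γ(X, U.1)] Γ(M, U.1))
    (h' : Compat φ') (hj : Compat φj)
    (hF : ∀ (U V : X.affineOpens) (hVU : V.1 ≤ U.1) (a : Fin i → Γ(E', U.1)) (b : Fin j → Γ(E, U.1)),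
      F V (tmul (wedge φ' V fun k => resM E' hVU (a k)) (wedge φj V fun k => resM E hVU (b k))) =
        resM M hVU (F U (tmul (wedge φ' U a) (wedge φj U b)))) :
    ∃ ψ : CohB1.tensorMod L' Lj ⟶ M, ∀ (U : X.affineOpens) (s : Γ(CohB1.tensorMod L' Lj, U.1)),
      ψ.app U.1 s = F U s := by
  refine InjMod14.Kosz.exists_hom_of_affine _ _ F fun U V hVU s => ?_
  obtain ⟨t, rfl⟩ := (tmulEquiv L' Lj U).surjective s
  induction t using TensorProduct.induction_on with
  | zero => simp only [map_zero]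
  | add x y hx hy =>
    simp only [map_add]
    rw [hx, hy]
  | tmul a b =>
    change F V (resM _ hVU (tmul (show Γ(L', U.1) from a) (show Γ(Lj, U.1) from b))) =
      resM M hVU (F U (tmul (show Γ(L', U.1) from a) (show Γ(Lj, U.1) from b)))
    rw [resM_tmul]
    refine wedge_induction φ' (P := fun a => F V (tmul (resM L' hVU a) (resM Lj hVU (show Γ(Lj, U.1) from b))) =
        resM M hVU (F U (tmul a (show Γ(Lj, U.1) from b)))) ?_ ?_ ?_ (fun va => ?_) _
    · rw [tmul_zero_left, map_zero, map_zero, map_zero, tmul_zero_left, map_zero]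
    · intro x y hx hy
      rw [map_add, tmul_add_left, map_add, hx, hy, tmul_add_left, map_add, map_add]
    · intro r x hx
      rw [resM_smul, tmul_smul_left, map_smul, hx, tmul_smul_left, map_smul, resM_smul]
    refine wedge_induction φj (P := fun b => F V (tmul (resM L' hVU (wedge φ' U va)) (resM Lj hVU b)) =
        resM M hVU (F U (tmul (wedge φ' U va) b))) ?_ ?_ ?_ (fun vb => ?_) _
    · have hz : ∀ {W : X.Opens} (x : Γ(L', W)), tmul x (0 : Γ(Lj, W)) = 0 := fun x => by
        have h := tmul_add_right x (0 : Γ(Lj, _)) 0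
        rwa [add_zero, left_eq_add] at h
      rw [map_zero, hz, map_zero, hz, map_zero, map_zero]
    · intro x y hx hy
      rw [map_add, tmul_add_right, map_add, hx, hy, tmul_add_right, map_add, map_add]
    · intro r x hx
      rw [resM_smul, tmul_smul_right, map_smul, hx, tmul_smul_right, map_smul, resM_smul]
    show F V (tmul (resM L' hVU (wedge φ' U va)) (resM Lj hVU (wedge φj U vb))) = _
    rw [wedge_res φ' h' hVU, wedge_res φj hj hVU]
    exact hF U V hVU va vb

/-- The wedge map. -/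
theorem exists_muHom (h' : Compat φ') (hj : Compat φj) (hn : Compat φ) (h : i + j = n) :
    ∃ ψ : CohB1.tensorMod L' Lj ⟶ L, ∀ (U : X.affineOpens) (s : Γ(CohB1.tensorMod L' Lj, U.1)),
      ψ.app U.1 s = muSec f φ' φj φ h U s := by
  refine hom_of_wedges φ' φj (muSec f φ' φj φ h) h' hj fun U V hVU a b => ?_
  rw [muSec_wedge, muSec_wedge, wedge_res φ hn hVU]
  congr 1
  funext x
  simp only [Function.comp_apply]
  refine Fin.addCases (fun k => ?_) (fun k => ?_) (Fin.cast h.symm x) <;> simp [app_resM]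

/-- The projection map. -/
theorem exists_projHom (h' : Compat φ') (hj : Compat φj) (hj'' : Compat φj'') :
    ∃ ψ : CohB1.tensorMod L' Lj ⟶ CohB1.tensorMod L' Lj'', ∀ (U : X.affineOpens) (s : Γ(CohB1.tensorMod L' Lj, U.1)),
      ψ.app U.1 s = projSec g φ' φj φj'' U s := by
  refine hom_of_wedges φ' φj (projSec g φ' φj φj'') h' hj fun U V hVU a b => ?_
  rw [projSec_wedge, projSec_wedge, resM_tmul, wedge_res φ' h' hVU, wedge_res φj'' hj'' hVU]
  congr 2
  funext x
  exact app_resM g hVU (b x)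

end Groth.Agent.ExtFilt28
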