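import Groth.Prelude.Def_SGA6
import Groth.Prelude.Def_DCoh4
import Groth.Agent.ExtFilt28.Maps
import Groth.Agent.ExtFilt28.LocFree
import Groth.Agent.Coherent.Existence.SysKernel
import Groth.Agent.Coherent.QcohOps

/-!
# The filtration of the exterior power of an extension
-/

set_option autoImplicit false
set_option linter.style.haveILetI false
set_option backward.isDefEq.respectTransparency.types false
set_option maxHeartbeats 1000000

universe u

open CategoryTheory CategoryTheory.Limits AlgebraicGeometry Opposite TopologicalSpace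
open Groth.Agent.Coherent Groth.Agent.Coherent.Existence Groth.Agent.PicLib Groth.Agent.AmpleLib Groth.Agent.GrassLib.PBundle
open scoped ZeroObject

namespace Groth.Agent.ExtFilt28

variable {X : Scheme.{u}}

local notation "KV" => KZero.K0sub (fun M : X.Modules => FlatMod.IsFinLocFree M)
local notation "clv" => KZero.clSub (fun M : X.Modules => FlatMod.IsFinLocFree M)

theorem clv_ses {S : ShortComplex X.Modules} (hS : S.ShortExact) (h₁ : FlatMod.IsFinLocFree S.X₁)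
    (h₂ : FlatMod.IsFinLocFree S.X₂) (h₃ : FlatMod.IsFinLocFree S.X₃) : clv S.X₂ = clv S.X₁ + clv S.X₃ := by
  rw [KZero.clSub, KZero.clSub, KZero.clSub, dif_pos h₁, dif_pos h₂, dif_pos h₃, ← QuotientAddGroup.mk_add,
    eq_comm, QuotientAddGroup.eq]
  refine AddSubgroup.subset_closure ⟨S, h₁, h₂, h₃, hS, ?_⟩
  abel

theorem isFinLocFree_isZero {F : X.Modules} (h : IsZero F) : FlatMod.IsFinLocFree F := fun _ =>
  ⟨⊤, 0, trivial, ⟨(((Scheme.Modules.restrictFunctor (⊤ : X.Opens).ι).map_isZero h)).iso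
    ((IsZero.iff_id_eq_zero _).2 (Limits.Sigma.hom_ext _ _ fun j => j.elim0))⟩⟩

theorem clv_iso {F G : X.Modules} (e : F ≅ G) : clv F = clv G := by
  by_cases hF : FlatMod.IsFinLocFree F
  · have hz : IsZero (0 : X.Modules) := isZero_zero _
    have hS : (ShortComplex.mk e.hom (0 : G ⟶ (0 : X.Modules)) comp_zero).ShortExact :=
      { exact := (ShortComplex.exact_iff_epi _ rfl).2 (inferInstanceAs (Epi e.hom))
        mono_f := inferInstanceAs (Mono e.hom)
        epi_g := ⟨fun _ _ _ => hz.eq_of_src _ _⟩ }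
    have hzS : (ShortComplex.mk (𝟙 (0 : X.Modules)) (0 : (0 : X.Modules) ⟶ 0) comp_zero).ShortExact :=
      { exact := (ShortComplex.exact_iff_epi _ rfl).2 (inferInstanceAs (Epi (𝟙 _)))
        mono_f := inferInstanceAs (Mono (𝟙 _))
        epi_g := ⟨fun _ _ _ => hz.eq_of_src _ _⟩ }
    have h0 : clv (0 : X.Modules) = 0 :=
      left_eq_add.1 (clv_ses hzS (isFinLocFree_isZero hz) (isFinLocFree_isZero hz) (isFinLocFree_isZero hz))
    have h := clv_ses hS hF (isFinLocFree_congr e hF) (isFinLocFree_isZero hz)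
    rw [h0, add_zero] at h
    exact h.symm
  · have hG : ¬ FlatMod.IsFinLocFree G := fun h => hF (isFinLocFree_congr e.symm h)
    rw [KZero.clSub, KZero.clSub, dif_neg hF, dif_neg hG]

variable {S : ShortComplex X.Modules} (hS : S.ShortExact)
  (h₁ : FlatMod.IsFinLocFree S.X₁) (h₃ : FlatMod.IsFinLocFree S.X₃)

/-- An affine open over which the extension is split with free pieces. -/
def Good (S : ShortComplex X.Modules) (V : X.affineOpens) : Prop :=
  (∃ s, Split (secMap S.f V.1) (secMap S.g V.1) s) ∧ Function.Injective (secMap S.f V.1) ∧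
    (Module.Free Γ(X, V.1) (S.X₁.val.obj (op V.1)) ∧ Module.Finite Γ(X, V.1) (S.X₁.val.obj (op V.1))) ∧
      Module.Free Γ(X, V.1) (S.X₃.val.obj (op V.1)) ∧ Module.Finite Γ(X, V.1) (S.X₃.val.obj (op V.1))

include hS h₁ h₃ in
theorem exists_good (W : X.Opens) (x : X) (hxW : x ∈ W) :
    ∃ V : X.affineOpens, x ∈ V.1 ∧ V.1 ≤ W ∧ Good S V := by
  classical
  haveI : Coh.IsQCoh S.X₁ := CAlgH3.LocFreeFactor.isQCoh_of_finLocFree h₁
  obtain ⟨U, a, hx, ⟨eK⟩⟩ := h₁ x
  obtain ⟨U', c, hx', ⟨eF⟩⟩ := h₃ x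
  obtain ⟨V, hV, hxV, hle⟩ := TopologicalSpace.Opens.isBasis_iff_nbhd.1 X.isBasis_affineOpens
    (show x ∈ W ⊓ (U ⊓ U') from ⟨hxW, hx, hx'⟩)
  obtain ⟨bK⟩ := Props12.exists_basis_sections eK (hle.trans (inf_le_right.trans inf_le_left))
  obtain ⟨bF⟩ := Props12.exists_basis_sections eF (hle.trans (inf_le_right.trans inf_le_right))
  let bK' : Module.Basis (Fin a) Γ(X, V) (S.X₁.val.obj (op V)) := bK
  let bF' : Module.Basis (Fin c) Γ(X, V) (S.X₃.val.obj (op V)) := bF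
  have hg : Function.Surjective (secMap S.g V) := sections_surjective hS hV
  have hf : Function.Injective (secMap S.f V) := sections_injective hS V
  choose l hl using fun k => hg (bF' k)
  have hcomp : secMap S.g V ∘ₗ secMap S.f V = 0 := LinearMap.ext fun t => sections_zero V t
  have hsec : secMap S.g V ∘ₗ bF'.constr ℕ l = LinearMap.id := bF'.ext fun k => by
    rw [LinearMap.comp_apply, Module.Basis.constr_basis]; exact hl k
  refine ⟨⟨V, hV⟩, hxV, hle.trans inf_le_left, ⟨bF'.constr ℕ l, hcomp, hsec, fun y => ?_⟩, hf,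
    ⟨Module.Free.of_basis bK', Module.Finite.of_basis bK'⟩, Module.Free.of_basis bF', Module.Finite.of_basis bF'⟩
  refine sections_exact hS (U := V) _ ?_
  show secMap S.g V (y - bF'.constr ℕ l (secMap S.g V y)) = 0
  rw [map_sub, show secMap S.g V (bF'.constr ℕ l (secMap S.g V y)) = secMap S.g V y from
    LinearMap.congr_fun hsec _, sub_self]

include hS h₁ h₃ in
theorem hom_ext_good {M N : X.Modules} (φ ψ : M ⟶ N)
    (h : ∀ V : X.affineOpens, Good S V → ∀ s : Γ(M, V.1), φ.app V.1 s = ψ.app V.1 s) : φ = ψ :=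
  InjMod14.Kosz.hom_ext_affine φ ψ fun U s => InjMod14.Kosz.sec_ext fun x hx => by
    obtain ⟨V, hxV, hVU, hg⟩ := exists_good hS h₁ h₃ U.1 x hx
    exact ⟨V.1, hVU, hxV, by rw [← app_resM, ← app_resM]; exact h V hg _⟩

variable {L' L L'' : ℕ → X.Modules}
  (φ' : ∀ (i : ℕ) (U : X.affineOpens), ((L' i).val.obj (op U.1)) ≃ₗ[Γ(X, U.1)] ↥(⋀[Γ(X, U.1)]^i (S.X₁.val.obj (op U.1))))
  (φ : ∀ (i : ℕ) (U : X.affineOpens), ((L i).val.obj (op U.1)) ≃ₗ[Γ(X, U.1)] ↥(⋀[Γ(X, U.1)]^i (S.X₂.val.obj (op U.1))))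
  (φ'' : ∀ (i : ℕ) (U : X.affineOpens), ((L'' i).val.obj (op U.1)) ≃ₗ[Γ(X, U.1)] ↥(⋀[Γ(X, U.1)]^i (S.X₃.val.obj (op U.1))))
  (c' : ∀ i, Compat (φ' i)) (c : ∀ i, Compat (φ i)) (c'' : ∀ i, Compat (φ'' i))
  [∀ i, Coh.IsQCoh (L' i)] [∀ i, Coh.IsQCoh (L i)] [∀ i, Coh.IsQCoh (L'' i)] {n : ℕ}

section Sections

variable {V : X.affineOpens} (hV : Good S V) {i j : ℕ}

/-- coordinates on a good open -/
noncomputable def cT (i j : ℕ) (V : X.affineOpens) :
    Γ(CohB1.tensorMod (L' i) (L j), V.1) ≃ₗ[Γ(X, V.1)]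
      TensorProduct Γ(X, V.1) (⋀[Γ(X, V.1)]^i (S.X₁.val.obj (op V.1))) (⋀[Γ(X, V.1)]^j (S.X₂.val.obj (op V.1))) :=
  (tmulEquiv (L' i) (L j) V).symm.trans (TensorProduct.congr (φ' i V) (φ j V))

theorem muSec_eq (h : i + j = n) (s : Γ(CohB1.tensorMod (L' i) (L j), V.1)) :
    muSec S.f (φ' i) (φ j) (φ n) h V s = (φ n V).symm (mu (secMap S.f V.1) h (cT φ' φ i j V s)) := rfl

theorem projSec_eq_zero_iff (s : Γ(CohB1.tensorMod (L' i) (L j), V.1)) :
    projSec S.g (φ' i) (φ j) (φ'' j) V s = 0 ↔ proj (secMap S.g V.1) i j (cT φ' φ i j V s) = 0 := by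
  change tmulEquiv (L' i) (L'' j) V ((TensorProduct.congr (φ' i V) (φ'' j V)).symm
    (proj (secMap S.g V.1) i j (cT φ' φ i j V s))) = 0 ↔ _
  rw [LinearEquiv.map_eq_zero_iff, LinearEquiv.map_eq_zero_iff]

include hV

theorem proj_zero_of_mu (h : i + j = n) {s : Γ(CohB1.tensorMod (L' i) (L j), V.1)}
    (hs : muSec S.f (φ' i) (φ j) (φ n) h V s = 0) : projSec S.g (φ' i) (φ j) (φ'' j) V s = 0 := by
  obtain ⟨⟨l, hl⟩, hinj, ⟨i1, i2⟩, i3, i4⟩ := hV
  rw [muSec_eq] at hs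
  replace hs := (LinearEquiv.map_eq_zero_iff (φ n V).symm).1 hs
  exact (projSec_eq_zero_iff φ' φ φ'' s).2 (proj_eq_zero_of_mu hl hinj h hs)

theorem proj_zero_injective {s : Γ(CohB1.tensorMod (L' i) (L 0), V.1)}
    (hs : projSec S.g (φ' i) (φ 0) (φ'' 0) V s = 0) : s = 0 := by
  obtain ⟨⟨l, hl⟩, -⟩ := hV
  rw [projSec_eq_zero_iff] at hs
  have h2 := lift_proj_zero (g := secMap S.g V.1) (s := l) i (cT φ' φ i 0 V s)
  rw [hs, map_zero] at h2
  exact (LinearEquiv.map_eq_zero_iff _).1 h2.symm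

theorem projSec_surjective : Function.Surjective (projSec S.g (φ' i) (φ j) (φ'' j) V) := by
  obtain ⟨⟨l, hl⟩, -⟩ := hV
  intro q
  obtain ⟨t, ht⟩ := proj_surjective hl i j (TensorProduct.congr (φ' i V) (φ'' j V) ((tmulEquiv (L' i) (L'' j) V).symm q))
  refine ⟨(cT φ' φ i j V).symm t, ?_⟩
  show tmulEquiv (L' i) (L'' j) V ((TensorProduct.congr (φ' i V) (φ'' j V)).symm
    (proj (secMap S.g V.1) i j (cT φ' φ i j V ((cT φ' φ i j V).symm t)))) = q
  rw [LinearEquiv.apply_symm_apply, ht, LinearEquiv.symm_apply_apply, LinearEquiv.apply_symm_apply]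

theorem mu_of_proj_zero (h : i + (j + 1) = n) (h' : i + 1 + j = n)
    {s : Γ(CohB1.tensorMod (L' i) (L (j + 1)), V.1)}
    (hs : projSec S.g (φ' i) (φ (j + 1)) (φ'' (j + 1)) V s = 0) :
    ∃ t, muSec S.f (φ' (i + 1)) (φ j) (φ n) h' V t = muSec S.f (φ' i) (φ (j + 1)) (φ n) h V s := by
  obtain ⟨⟨l, hl⟩, -⟩ := hV
  rw [projSec_eq_zero_iff] at hs
  obtain ⟨t, ht⟩ := proj_eq_zero_imp hl h h' hs
  exact ⟨(cT φ' φ (i + 1) j V).symm t, by rw [muSec_eq, muSec_eq, LinearEquiv.apply_symm_apply, ht]⟩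

theorem exists_lower (h : i + (j + 1) = n) (h' : i + 1 + j = n)
    (s : Γ(CohB1.tensorMod (L' (i + 1)) (L j), V.1)) :
    ∃ t, projSec S.g (φ' i) (φ (j + 1)) (φ'' (j + 1)) V t = 0 ∧
      muSec S.f (φ' i) (φ (j + 1)) (φ n) h V t = muSec S.f (φ' (i + 1)) (φ j) (φ n) h' V s := by
  obtain ⟨⟨l, hl⟩, -⟩ := hV
  obtain ⟨t, ht, ht'⟩ := exists_proj_eq_zero hl h h' (cT φ' φ (i + 1) j V s)
  refine ⟨(cT φ' φ i (j + 1) V).symm t, ?_, ?_⟩
  · rw [projSec_eq_zero_iff, LinearEquiv.apply_symm_apply]; exact ht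
  · rw [muSec_eq, muSec_eq, LinearEquiv.apply_symm_apply, ht']

omit hV in
theorem exists_lower' (h : i + (j + 1) = n) (h' : i + 1 + j = n)
    (s : Γ(CohB1.tensorMod (L' (i + 1)) (L j), V.1)) :
    ∃ t, muSec S.f (φ' i) (φ (j + 1)) (φ n) h V t = muSec S.f (φ' (i + 1)) (φ j) (φ n) h' V s := by
  obtain ⟨t, ht⟩ := range_mu_succ_le (secMap S.f V.1) h' h ⟨cT φ' φ (i + 1) j V s, rfl⟩
  exact ⟨(cT φ' φ i (j + 1) V).symm t, by rw [muSec_eq, muSec_eq, LinearEquiv.apply_symm_apply, ht]⟩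

omit hV in
theorem muSec_zero_surjective : Function.Surjective (muSec S.f (φ' 0) (φ n) (φ n) (zero_add n) V) := fun y => by
  obtain ⟨t, ht⟩ := mu_zero_surjective (secMap S.f V.1) (zero_add n) (φ n V y)
  exact ⟨(cT φ' φ 0 n V).symm t, by rw [muSec_eq, LinearEquiv.apply_symm_apply, ht, LinearEquiv.symm_apply_apply]⟩

end Sections

/-- the wedge morphism -/
noncomputable def muH {i j : ℕ} (h : i + j = n) : CohB1.tensorMod (L' i) (L j) ⟶ L n :=
  (exists_muHom S.f (φ' i) (φ j) (φ n) (c' i) (c j) (c n) h).choose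

theorem muH_app {i j : ℕ} (h : i + j = n) (U : X.affineOpens) (s : Γ(CohB1.tensorMod (L' i) (L j), U.1)) :
    (muH φ' φ c' c h).app U.1 s = muSec S.f (φ' i) (φ j) (φ n) h U s :=
  (exists_muHom S.f (φ' i) (φ j) (φ n) (c' i) (c j) (c n) h).choose_spec U s

/-- the projection morphism -/
noncomputable def prH (i j : ℕ) : CohB1.tensorMod (L' i) (L j) ⟶ CohB1.tensorMod (L' i) (L'' j) :=
  (exists_projHom S.g (φ' i) (φ j) (φ'' j) (c' i) (c j) (c'' j)).choose

theorem prH_app (i j : ℕ) (U : X.affineOpens) (s : Γ(CohB1.tensorMod (L' i) (L j), U.1)) :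
    (prH φ' φ φ'' c' c c'' i j).app U.1 s = projSec S.g (φ' i) (φ j) (φ'' j) U s :=
  (exists_projHom S.g (φ' i) (φ j) (φ'' j) (c' i) (c j) (c'' j)).choose_spec U s

/-- steps of the filtration -/
noncomputable abbrev Fil {i j : ℕ} (h : i + j = n) : X.Modules := Abelian.image (muH φ' φ c' c h)

/-- the map from the tensors to a step -/
noncomputable abbrev toFil {i j : ℕ} (h : i + j = n) : CohB1.tensorMod (L' i) (L j) ⟶ Fil φ' φ c' c h :=
  Abelian.factorThruImage (muH φ' φ c' c h)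

theorem toFil_ι {i j : ℕ} (h : i + j = n) (U : X.Opens) (s : Γ(CohB1.tensorMod (L' i) (L j), U)) :
    (Abelian.image.ι (muH φ' φ c' c h)).app U ((toFil φ' φ c' c h).app U s) = (muH φ' φ c' c h).app U s := by
  rw [← comp_app_eq, Abelian.image.fac]

include hS h₁ h₃

theorem ker_toFil_comp {i j : ℕ} (h : i + j = n) :
    kernel.ι (toFil φ' φ c' c h) ≫ prH φ' φ φ'' c' c c'' i j = 0 := by
  refine hom_ext_good hS h₁ h₃ _ _ fun V hV s => ?_
  rw [comp_app_eq, prH_app]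
  refine (proj_zero_of_mu φ' φ φ'' hV h ?_).trans ?_
  · rw [← muH_app φ' φ c' c h, ← toFil_ι, ← comp_app_eq (kernel.ι _), kernel.condition]
    exact map_zero _
  · rfl

/-- the map from a step to its quotient -/
noncomputable def toQ {i j : ℕ} (h : i + j = n) : Fil φ' φ c' c h ⟶ CohB1.tensorMod (L' i) (L'' j) :=
  Abelian.epiDesc (toFil φ' φ c' c h) (prH φ' φ φ'' c' c c'' i j) (ker_toFil_comp hS h₁ h₃ φ' φ φ'' c' c c'' h)

theorem toFil_toQ {i j : ℕ} (h : i + j = n) :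
    toFil φ' φ c' c h ≫ toQ hS h₁ h₃ φ' φ φ'' c' c c'' h = prH φ' φ φ'' c' c c'' i j :=
  Abelian.comp_epiDesc _ _ _

theorem epi_toQ {i j : ℕ} (h : i + j = n) : Epi (toQ hS h₁ h₃ φ' φ φ'' c' c c'' h) := by
  haveI : Epi (prH φ' φ φ'' c' c c'' i j) := epi_of_locally_surjective _ fun W a y hy => by
    obtain ⟨V, hyV, hVW, hV⟩ := exists_good hS h₁ h₃ W y hy
    obtain ⟨b, hb⟩ := projSec_surjective φ' φ φ'' hV (resM _ hVW a)
    exact ⟨V.1, hVW, hyV, b, (prH_app φ' φ φ'' c' c c'' i j V b).trans hb⟩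
  exact epi_of_epi_fac (toFil_toQ hS h₁ h₃ φ' φ φ'' c' c c'' h)

theorem toFil_surjective {i j : ℕ} (h : i + j = n) (V : X.affineOpens) :
    Function.Surjective ((toFil φ' φ c' c h).app V.1) := by
  haveI := isQCoh_tensorMod (L' i) (L j)
  haveI : Coh.IsQCoh (Fil φ' φ c' c h) := isQCoh_image _
  exact app_surjective_of_epi _ V.2

theorem comp_cokernel_eq_zero {i j : ℕ} (h : i + (j + 1) = n) (h' : i + 1 + j = n) :
    Abelian.image.ι (muH φ' φ c' c h') ≫ cokernel.π (muH φ' φ c' c h) = 0 := by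
  rw [← cancel_epi (Abelian.factorThruImage (muH φ' φ c' c h')), ← Category.assoc, Abelian.image.fac, comp_zero]
  refine InjMod14.Kosz.hom_ext_affine _ _ fun V s => ?_
  obtain ⟨t, ht⟩ := exists_lower' φ' φ h h' s
  rw [comp_app_eq, muH_app, ← ht, ← muH_app φ' φ c' c h, ← comp_app_eq, cokernel.condition]
  rfl

/-- the inclusion of the next step -/
noncomputable def incl {i j : ℕ} (h : i + (j + 1) = n) (h' : i + 1 + j = n) :
    Fil φ' φ c' c h' ⟶ Fil φ' φ c' c h :=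
  kernel.lift (cokernel.π (muH φ' φ c' c h)) (Abelian.image.ι (muH φ' φ c' c h'))
    (comp_cokernel_eq_zero hS h₁ h₃ φ' φ c' c h h')

theorem incl_ι {i j : ℕ} (h : i + (j + 1) = n) (h' : i + 1 + j = n) :
    incl hS h₁ h₃ φ' φ c' c h h' ≫ Abelian.image.ι (muH φ' φ c' c h) = Abelian.image.ι (muH φ' φ c' c h') :=
  kernel.lift_ι _ _ _

theorem exists_step {i j : ℕ} (h : i + (j + 1) = n) (h' : i + 1 + j = n) :
    ∃ w, (ShortComplex.mk (incl hS h₁ h₃ φ' φ c' c h h') (toQ hS h₁ h₃ φ' φ φ'' c' c c'' h) w).ShortExact := by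
  let a := incl hS h₁ h₃ φ' φ c' c h h'
  let b := toQ hS h₁ h₃ φ' φ φ'' c' c c'' h
  haveI : Epi b := epi_toQ hS h₁ h₃ φ' φ φ'' c' c c'' h
  haveI : Mono a := mono_of_mono_fac (incl_ι hS h₁ h₃ φ' φ c' c h h')
  have hb : ∀ (U : X.Opens) (t : Γ(CohB1.tensorMod (L' i) (L (j + 1)), U)),
      b.app U ((toFil φ' φ c' c h).app U t) = (prH φ' φ φ'' c' c c'' i (j + 1)).app U t := fun U t => by
    rw [← comp_app_eq, toFil_toQ]
  have w : a ≫ b = 0 := by
    rw [← cancel_epi (toFil φ' φ c' c h'), comp_zero]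
    refine hom_ext_good hS h₁ h₃ _ _ fun V hV s => ?_
    obtain ⟨t, ht0, ht⟩ := exists_lower φ' φ φ'' hV h h' s
    have e1 : (toFil φ' φ c' c h' ≫ a).app V.1 s = (toFil φ' φ c' c h).app V.1 t := by
      refine Coherent.app_injective_of_mono (Abelian.image.ι (muH φ' φ c' c h)) V.1 ?_
      rw [← comp_app_eq, Category.assoc, incl_ι, Abelian.image.fac, toFil_ι, muH_app, muH_app, ht]
    rw [← Category.assoc, comp_app_eq, e1, hb, prH_app, ht0]
    rfl
  refine ⟨w, { exact := ShortComplex.exact_of_f_is_kernel _ ?_, mono_f := ‹Mono a›, epi_g := ‹Epi b› }⟩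
  have hk : kernel.ι b ≫ Abelian.image.ι (muH φ' φ c' c h) ≫ cokernel.π (muH φ' φ c' c h') = 0 := by
    refine hom_ext_good hS h₁ h₃ _ _ fun V hV s => ?_
    obtain ⟨t, ht⟩ := toFil_surjective hS h₁ h₃ φ' φ c' c h V ((kernel.ι b).app V.1 s)
    have ht0 : projSec S.g (φ' i) (φ (j + 1)) (φ'' (j + 1)) V t = 0 := by
      rw [← prH_app φ' φ φ'' c' c c'', ← hb, ht, ← comp_app_eq, kernel.condition]
      rfl
    obtain ⟨t', ht'⟩ := mu_of_proj_zero φ' φ φ'' hV h h' ht0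
    rw [comp_app_eq, comp_app_eq, ← ht, toFil_ι, muH_app, ← ht', ← muH_app φ' φ c' c h', ← comp_app_eq,
      cokernel.condition]
    rfl
  let m : kernel b ⟶ Fil φ' φ c' c h' := kernel.lift _ (kernel.ι b ≫ Abelian.image.ι (muH φ' φ c' c h))
    (by rw [Category.assoc]; exact hk)
  have hm : m ≫ a = kernel.ι b := by
    rw [← cancel_mono (Abelian.image.ι (muH φ' φ c' c h)), Category.assoc, incl_ι]
    exact kernel.lift_ι _ _ _
  exact IsKernel.isoKernel b a (kernelIsKernel b)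
    { hom := kernel.lift b a w
      inv := m
      hom_inv_id := by rw [← cancel_mono a, Category.assoc, hm, kernel.lift_ι, Category.id_comp]
      inv_hom_id := by rw [← cancel_mono (kernel.ι b), Category.assoc, kernel.lift_ι, hm, Category.id_comp] }
    (kernel.lift_ι _ _ _)

theorem isIso_toQ_zero {i : ℕ} (h : i + 0 = n) : IsIso (toQ hS h₁ h₃ φ' φ φ'' c' c c'' h) := by
  let b := toQ hS h₁ h₃ φ' φ φ'' c' c c'' h
  haveI : Epi b := epi_toQ hS h₁ h₃ φ' φ φ'' c' c c'' h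
  have hk : kernel.ι b = 0 := by
    refine hom_ext_good hS h₁ h₃ _ _ fun V hV s => ?_
    obtain ⟨t, ht⟩ := toFil_surjective hS h₁ h₃ φ' φ c' c h V ((kernel.ι b).app V.1 s)
    have ht0 : projSec S.g (φ' i) (φ 0) (φ'' 0) V t = 0 := by
      rw [← prH_app φ' φ φ'' c' c c'', ← toFil_toQ hS h₁ h₃ φ' φ φ'' c' c c'' h, comp_app_eq, ht,
        ← comp_app_eq, kernel.condition]
      rfl
    rw [← ht, proj_zero_injective φ' φ φ'' hV ht0, map_zero]
    rfl
  haveI : Mono b := Preadditive.mono_of_kernel_zero hk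
  exact isIso_of_mono_of_epi b

variable (hL' : ∀ i, FlatMod.IsFinLocFree (L' i)) (hL'' : ∀ i, FlatMod.IsFinLocFree (L'' i))
include hL' hL''

include c'' in
theorem fil_class : ∀ (j i : ℕ) (h : i + j = n),
    FlatMod.IsFinLocFree (Fil φ' φ c' c h) ∧
      clv (Fil φ' φ c' c h) = ∑ k ∈ Finset.range (j + 1), clv (CohB1.tensorMod (L' (n - k)) (L'' k))
  | 0, i, h => by
    haveI := isIso_toQ_zero hS h₁ h₃ φ' φ φ'' c' c c'' h
    let e := asIso (toQ hS h₁ h₃ φ' φ φ'' c' c c'' h)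
    refine ⟨isFinLocFree_congr e.symm (isFinLocFree_tensor (hL' i) (hL'' 0)), ?_⟩
    rw [Finset.sum_range_one, clv_iso e, show n - 0 = i by omega]
  | j + 1, i, h => by
    have h' : i + 1 + j = n := by omega
    obtain ⟨h1, h2⟩ := fil_class j (i + 1) h'
    obtain ⟨w, hw⟩ := exists_step hS h₁ h₃ φ' φ φ'' c' c c'' h h'
    have h3 := isFinLocFree_tensor (hL' i) (hL'' (j + 1))
    have h4 := isFinLocFree_extension hw h1 h3
    refine ⟨h4, ?_⟩
    rw [Finset.sum_range_succ _ (j + 1), ← h2, show n - (j + 1) = i by omega]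
    exact clv_ses hw h1 h4 h3

include c' c c'' in
/-- The class of the exterior power of an extension. -/
theorem clv_extPow (n : ℕ) :
    clv (L n) = ∑ i ∈ Finset.range (n + 1), clv (CohB1.tensorMod (L' i) (L'' (n - i))) := by
  have hsurj : Epi (muH φ' φ c' c (zero_add n)) := epi_of_locally_surjective _ fun W a y hy => by
    obtain ⟨V, hyV, hVW, -⟩ := exists_good hS h₁ h₃ W y hy
    obtain ⟨b, hb⟩ := muSec_zero_surjective φ' φ (V := V) (resM _ hVW a)
    exact ⟨V.1, hVW, hyV, b, (muH_app φ' φ c' c (zero_add n) V b).trans hb⟩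
  haveI : IsIso (Abelian.image.ι (muH φ' φ c' c (zero_add n))) := by
    haveI : Epi (Abelian.image.ι (muH φ' φ c' c (zero_add n))) :=
      epi_of_epi_fac (Abelian.image.fac (muH φ' φ c' c (zero_add n)))
    exact isIso_of_mono_of_epi _
  rw [← clv_iso (asIso (Abelian.image.ι (muH φ' φ c' c (zero_add n)))),
    (fil_class hS h₁ h₃ φ' φ φ'' c' c c'' hL' hL'' n 0 (zero_add n)).2, ← Finset.sum_range_reflect]
  refine Finset.sum_congr rfl fun k hk => ?_
  rw [Finset.mem_range] at hk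
  rw [show n - (n + 1 - 1 - k) = k by omega, show n + 1 - 1 - k = n - k by omega]

end Groth.Agent.ExtFilt28
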