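import Mathlib

/-!
# The filtration of an exterior power of a split extension
-/

set_option autoImplicit false
set_option linter.style.haveILetI false
universe u

open scoped TensorProduct

namespace Groth.Agent.ExtFilt28

variable {R : Type u} [CommRing R] {P' P P'' : Type u} [AddCommGroup P'] [Module R P'] [AddCommGroup P] [Module R P]
  [AddCommGroup P''] [Module R P'']

theorem map_mem_pow {n : ℕ} (f : P' →ₗ[R] P) {x : ExteriorAlgebra R P'} (hx : x ∈ ⋀[R]^n P') :
    ExteriorAlgebra.map f x ∈ ⋀[R]^n P := by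
  have h1 : Submodule.map (ExteriorAlgebra.map f).toLinearMap (LinearMap.range (ExteriorAlgebra.ι R (M := P'))) ≤
      LinearMap.range (ExteriorAlgebra.ι R (M := P)) := by
    rintro _ ⟨_, ⟨p, rfl⟩, rfl⟩
    exact ⟨f p, (LinearMap.congr_fun (ExteriorAlgebra.map_comp_ι f) p).symm⟩
  have h2 : ExteriorAlgebra.map f x ∈ Submodule.map (ExteriorAlgebra.map f).toLinearMap
      (LinearMap.range (ExteriorAlgebra.ι R (M := P')) ^ n) := ⟨x, hx, rfl⟩
  rw [Submodule.map_pow] at h2
  exact pow_le_pow_left' h1 n h2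

/-- Wedge with the exterior power of the sub. -/
noncomputable def mu (f : P' →ₗ[R] P) {i j n : ℕ} (h : i + j = n) :
    (⋀[R]^i P') ⊗[R] (⋀[R]^j P) →ₗ[R] ⋀[R]^n P :=
  TensorProduct.lift <| LinearMap.mk₂ R
    (fun a b => ⟨ExteriorAlgebra.map f a.1 * b.1, by
      subst h
      show _ ∈ LinearMap.range (ExteriorAlgebra.ι R (M := P)) ^ (i + j)
      rw [pow_add]
      exact Submodule.mul_mem_mul (map_mem_pow f a.2) b.2⟩)
    (fun a a' b => Subtype.ext (by simp [add_mul]))
    (fun c a b => Subtype.ext (by simp [smul_mul_assoc]))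
    (fun a b b' => Subtype.ext (by simp [mul_add]))
    (fun c a b => Subtype.ext (by simp [mul_smul_comm]))

theorem coe_mu (f : P' →ₗ[R] P) {i j n : ℕ} (h : i + j = n) (a : ⋀[R]^i P') (b : ⋀[R]^j P) :
    (mu f h (a ⊗ₜ b)).1 = ExteriorAlgebra.map f a.1 * b.1 := rfl

theorem mu_ιMulti (f : P' →ₗ[R] P) {i j n : ℕ} (h : i + j = n) (a : Fin i → P') (b : Fin j → P) :
    mu f h (exteriorPower.ιMulti R i a ⊗ₜ exteriorPower.ιMulti R j b) =
      exteriorPower.ιMulti R n (Fin.append (f ∘ a) b ∘ Fin.cast h.symm) := by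
  subst h
  refine Subtype.ext ?_
  rw [coe_mu, exteriorPower.ιMulti_apply_coe, exteriorPower.ιMulti_apply_coe, exteriorPower.ιMulti_apply_coe,
    ExteriorAlgebra.map_apply_ιMulti, ExteriorAlgebra.ιMulti_apply, ExteriorAlgebra.ιMulti_apply,
    ExteriorAlgebra.ιMulti_apply, ← List.prod_append, ← List.ofFn_fin_append]
  refine congrArg List.prod (congrArg List.ofFn (funext fun x => ?_))
  refine Fin.addCases (fun x => ?_) (fun x => ?_) x <;> simp

/-- Projection to the quotient. -/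
noncomputable def proj (g : P →ₗ[R] P'') (i j : ℕ) : (⋀[R]^i P') ⊗[R] (⋀[R]^j P) →ₗ[R] (⋀[R]^i P') ⊗[R] (⋀[R]^j P'') :=
  TensorProduct.map LinearMap.id (exteriorPower.map j g)

/-- A splitting. -/
structure Split (f : P' →ₗ[R] P) (g : P →ₗ[R] P'') (s : P'' →ₗ[R] P) : Prop where
  comp : g ∘ₗ f = 0
  sec : g ∘ₗ s = LinearMap.id
  mem : ∀ x, x - s (g x) ∈ LinearMap.range f

section Sub

variable (f : P' →ₗ[R] P) (g : P →ₗ[R] P'') (s : P'' →ₗ[R] P)

/-- the image of the sub -/
noncomputable abbrev FF : Submodule R (ExteriorAlgebra R P) := LinearMap.range (ExteriorAlgebra.ι R ∘ₗ f)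

/-- all vectors -/
noncomputable abbrev VV : Submodule R (ExteriorAlgebra R P) := LinearMap.range (ExteriorAlgebra.ι R (M := P))

theorem FF_le : FF f ≤ VV (R := R) (P := P) := LinearMap.range_comp_le_range _ _

theorem map_pow_eq (i : ℕ) : Submodule.map (ExteriorAlgebra.map f).toLinearMap (⋀[R]^i P') = FF f ^ i := by
  show Submodule.map _ (LinearMap.range (ExteriorAlgebra.ι R (M := P')) ^ i) = _
  rw [Submodule.map_pow, ← LinearMap.range_comp, ExteriorAlgebra.map_comp_ι]

theorem VV_mul_FF_le : VV (R := R) (P := P) * FF f ≤ FF f * VV (R := R) (P := P) := by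
  rw [Submodule.mul_le]
  rintro _ ⟨v, rfl⟩ _ ⟨p, rfl⟩
  rw [LinearMap.comp_apply, eq_neg_of_add_eq_zero_left (ExteriorAlgebra.ι_add_mul_swap v (f p))]
  exact neg_mem (Submodule.mul_mem_mul ⟨p, rfl⟩ ⟨v, rfl⟩)

theorem map_range_mu {i j n : ℕ} (h : i + j = n) :
    Submodule.map (⋀[R]^n P).subtype (LinearMap.range (mu f h)) = FF f ^ i * VV (R := R) (P := P) ^ j := by
  refine le_antisymm ?_ ?_
  · rintro _ ⟨_, ⟨t, rfl⟩, rfl⟩
    induction t using TensorProduct.induction_on with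
    | zero => simp
    | tmul a b => exact Submodule.mul_mem_mul (map_pow_eq f i ▸ ⟨a.1, a.2, rfl⟩) b.2
    | add a b ha hb => rw [map_add, map_add]; exact add_mem ha hb
  · rw [Submodule.mul_le]
    intro a ha b hb
    rw [← map_pow_eq] at ha
    obtain ⟨a, ha, rfl⟩ := ha
    exact ⟨_, ⟨(⟨a, ha⟩ : ⋀[R]^i P') ⊗ₜ ⟨b, hb⟩, rfl⟩, rfl⟩

theorem range_mu_succ_le {i j n : ℕ} (h : i + 1 + j = n) (h' : i + (j + 1) = n) :
    LinearMap.range (mu f h) ≤ LinearMap.range (mu f h') := by
  intro x hx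
  have h1 : x.1 ∈ Submodule.map (⋀[R]^n P).subtype (LinearMap.range (mu f h)) := ⟨x, hx, rfl⟩
  rw [map_range_mu] at h1
  have h2 : x.1 ∈ Submodule.map (⋀[R]^n P).subtype (LinearMap.range (mu f h')) := by
    rw [map_range_mu]
    refine (?_ : FF f ^ (i + 1) * VV ^ j ≤ FF f ^ i * VV ^ (j + 1)) h1
    rw [pow_succ (FF f), pow_succ' (VV (R := R) (P := P)), mul_assoc]
    exact mul_le_mul' le_rfl (mul_le_mul' (FF_le f) le_rfl)
  obtain ⟨y, hy, e⟩ := h2
  exact Subtype.ext e ▸ hy

variable {f g s}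

theorem sub_map_mem (hs : Split f g s) : ∀ (j : ℕ) (x : ExteriorAlgebra R P), x ∈ VV (R := R) (P := P) ^ (j + 1) →
    x - ExteriorAlgebra.map (s ∘ₗ g) x ∈ FF f * VV (R := R) (P := P) ^ j := by
  intro j
  induction j with
  | zero =>
    intro x hx
    rw [zero_add, pow_one] at hx
    obtain ⟨v, rfl⟩ := hx
    obtain ⟨p, hp⟩ := hs.mem v
    rw [pow_zero, mul_one, show ExteriorAlgebra.map (s ∘ₗ g) (ExteriorAlgebra.ι R v) = _ from
      LinearMap.congr_fun (ExteriorAlgebra.map_comp_ι (s ∘ₗ g)) v, LinearMap.comp_apply, ← map_sub]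
    exact ⟨p, by rw [LinearMap.comp_apply, hp]; rfl⟩
  | succ j ih =>
    intro x hx
    rw [pow_succ'] at hx
    refine Submodule.mul_induction_on hx ?_ fun a b ha hb => ?_
    · rintro _ ⟨v, rfl⟩ y hy
      obtain ⟨p, hp⟩ := hs.mem v
      have hq : ExteriorAlgebra.map (s ∘ₗ g) (ExteriorAlgebra.ι R v) = ExteriorAlgebra.ι R (s (g v)) :=
        LinearMap.congr_fun (ExteriorAlgebra.map_comp_ι (s ∘ₗ g)) v
      rw [map_mul, hq, show ExteriorAlgebra.ι R v * y - ExteriorAlgebra.ι R (s (g v)) * ExteriorAlgebra.map (s ∘ₗ g) y =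
        ExteriorAlgebra.ι R (v - s (g v)) * y + ExteriorAlgebra.ι R (s (g v)) * (y - ExteriorAlgebra.map (s ∘ₗ g) y) by
          rw [map_sub, sub_mul, mul_sub]; abel]
      refine add_mem (Submodule.mul_mem_mul ⟨p, by rw [LinearMap.comp_apply, hp]⟩ hy) ?_
      have h1 : ExteriorAlgebra.ι R (s (g v)) * (y - ExteriorAlgebra.map (s ∘ₗ g) y) ∈
          VV (R := R) (P := P) * (FF f * VV (R := R) (P := P) ^ j) := Submodule.mul_mem_mul ⟨_, rfl⟩ (ih y hy)
      rw [← mul_assoc] at h1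
      rw [pow_succ', ← mul_assoc]
      exact mul_le_mul' (VV_mul_FF_le f) le_rfl h1
    · rw [map_add, add_sub_add_comm]
      exact add_mem ha hb

/-- lifting through the section -/
noncomputable def lift (g : P →ₗ[R] P'') (s : P'' →ₗ[R] P) (i j : ℕ) :
    (⋀[R]^i P') ⊗[R] (⋀[R]^j P'') →ₗ[R] (⋀[R]^i P') ⊗[R] (⋀[R]^j P) :=
  TensorProduct.map LinearMap.id (exteriorPower.map j s)

theorem proj_lift (hs : Split f g s) (i j : ℕ) (t : (⋀[R]^i P') ⊗[R] (⋀[R]^j P'')) :
    proj g i j (lift g s i j t) = t := by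
  rw [proj, lift, ← LinearMap.comp_apply, ← TensorProduct.map_comp, ← exteriorPower.map_comp, hs.sec,
    exteriorPower.map_id, LinearMap.id_comp, TensorProduct.map_id, LinearMap.id_apply]

theorem proj_surjective (hs : Split f g s) (i j : ℕ) : Function.Surjective (proj (P' := P') g i j) :=
  fun t => ⟨_, proj_lift hs i j t⟩

theorem coe_map {M N : Type u} [AddCommGroup M] [Module R M] [AddCommGroup N] [Module R N] (φ : M →ₗ[R] N)
    {j : ℕ} (b : ⋀[R]^j M) : (exteriorPower.map j φ b).1 = ExteriorAlgebra.map φ b.1 := by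
  have : (⋀[R]^j N).subtype ∘ₗ exteriorPower.map j φ = (ExteriorAlgebra.map φ).toLinearMap ∘ₗ (⋀[R]^j M).subtype :=
    exteriorPower.linearMap_ext (AlternatingMap.ext fun v => by simp [ExteriorAlgebra.map_apply_ιMulti])
  exact LinearMap.congr_fun this b

theorem mu_sub_lift_mem (hs : Split f g s) {i j n : ℕ} (h : i + (j + 1) = n) (h' : i + 1 + j = n)
    (t : (⋀[R]^i P') ⊗[R] (⋀[R]^(j + 1) P)) :
    mu f h t - mu f h (lift g s i (j + 1) (proj g i (j + 1) t)) ∈ LinearMap.range (mu f h') := by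
  induction t using TensorProduct.induction_on with
  | zero => simp
  | tmul a b =>
    have e : (mu f h (a ⊗ₜ b) - mu f h (lift g s i (j + 1) (proj g i (j + 1) (a ⊗ₜ b)))).1 ∈
        Submodule.map (⋀[R]^n P).subtype (LinearMap.range (mu f h')) := by
      rw [map_range_mu, proj, lift, TensorProduct.map_tmul, TensorProduct.map_tmul, ← LinearMap.comp_apply (exteriorPower.map (j + 1) s),
        ← exteriorPower.map_comp, Submodule.coe_sub, coe_mu, coe_mu, coe_map, LinearMap.id_apply, LinearMap.id_apply, ← mul_sub]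
      have h1 := Submodule.mul_mem_mul (show ExteriorAlgebra.map f a.1 ∈ FF f ^ i from map_pow_eq f i ▸ ⟨a.1, a.2, rfl⟩)
        (sub_map_mem hs j b.1 b.2)
      rwa [← mul_assoc, ← pow_succ] at h1
    obtain ⟨y, hy, e⟩ := e
    exact Subtype.ext e ▸ hy
  | add a b ha hb => rw [map_add, map_add, map_add, map_add, add_sub_add_comm]; exact add_mem ha hb

theorem proj_eq_zero_imp (hs : Split f g s) {i j n : ℕ} (h : i + (j + 1) = n) (h' : i + 1 + j = n)
    {t : (⋀[R]^i P') ⊗[R] (⋀[R]^(j + 1) P)} (ht : proj g i (j + 1) t = 0) :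
    mu f h t ∈ LinearMap.range (mu f h') := by
  simpa [ht] using mu_sub_lift_mem hs h h' t

theorem map_FF_mul (hs : Split f g s) {x : ExteriorAlgebra R P} {j : ℕ}
    (hx : x ∈ FF f * VV (R := R) (P := P) ^ j) : ExteriorAlgebra.map g x = 0 := by
  refine Submodule.mul_induction_on hx ?_ fun a b ha hb => by rw [map_add, ha, hb, add_zero]
  rintro _ ⟨p, rfl⟩ y -
  rw [map_mul, show ExteriorAlgebra.map g ((ExteriorAlgebra.ι R ∘ₗ f) p) = ExteriorAlgebra.ι R (g (f p)) from
    LinearMap.congr_fun (ExteriorAlgebra.map_comp_ι g) (f p), show g (f p) = 0 from LinearMap.congr_fun hs.comp p,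
    map_zero, zero_mul]

theorem exists_proj_eq_zero (hs : Split f g s) {i j n : ℕ} (h : i + (j + 1) = n) (h' : i + 1 + j = n)
    (t : (⋀[R]^(i + 1) P') ⊗[R] (⋀[R]^j P)) :
    ∃ t' : (⋀[R]^i P') ⊗[R] (⋀[R]^(j + 1) P), proj g i (j + 1) t' = 0 ∧ mu f h t' = mu f h' t := by
  have hle : Submodule.map (⋀[R]^n P).subtype (LinearMap.range (mu f h')) ≤
      Submodule.map (⋀[R]^n P).subtype (Submodule.map (mu f h) (LinearMap.ker (proj g i (j + 1)))) := by
    rw [map_range_mu, pow_succ (FF f), mul_assoc, Submodule.mul_le]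
    intro a ha z hz
    rw [← map_pow_eq] at ha
    obtain ⟨a, ha, rfl⟩ := ha
    have hz' : z ∈ ⋀[R]^(j + 1) P := by
      show z ∈ LinearMap.range (ExteriorAlgebra.ι R (M := P)) ^ (j + 1)
      rw [pow_succ']
      exact mul_le_mul' (FF_le f) le_rfl hz
    refine ⟨_, ⟨(⟨a, ha⟩ : ⋀[R]^i P') ⊗ₜ ⟨z, hz'⟩, ?_, rfl⟩, rfl⟩
    rw [SetLike.mem_coe, LinearMap.mem_ker, proj, TensorProduct.map_tmul]
    rw [show exteriorPower.map (j + 1) g ⟨z, hz'⟩ = 0 from Subtype.ext ((coe_map g _).trans (map_FF_mul hs hz)),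
      TensorProduct.tmul_zero]
  obtain ⟨y, ⟨t', ht', rfl⟩, e⟩ := hle ⟨_, ⟨t, rfl⟩, rfl⟩
  exact ⟨t', ht', Subtype.ext e⟩

theorem mu_zero_surjective (f : P' →ₗ[R] P) {n : ℕ} (h : 0 + n = n) : Function.Surjective (mu f h) := fun x =>
  ⟨exteriorPower.ιMulti R 0 Fin.elim0 ⊗ₜ x, Subtype.ext (by simp [coe_mu])⟩

theorem lift_proj_zero (i : ℕ) (t : (⋀[R]^i P') ⊗[R] (⋀[R]^0 P)) : lift g s i 0 (proj g i 0 t) = t := by
  have h : exteriorPower.map 0 (s ∘ₗ g) = LinearMap.id :=
    exteriorPower.linearMap_ext (AlternatingMap.ext fun v => by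
      simp only [LinearMap.compAlternatingMap_apply, exteriorPower.map_apply_ιMulti, LinearMap.id_apply]
      exact congrArg _ (funext fun k => k.elim0))
  rw [proj, lift, ← LinearMap.comp_apply, ← TensorProduct.map_comp, ← exteriorPower.map_comp, h,
    LinearMap.id_comp, TensorProduct.map_id, LinearMap.id_apply]

end Sub

section Rank

variable {f : P' →ₗ[R] P} {g : P →ₗ[R] P''} {s : P'' →ₗ[R] P}

variable (f g s) in
/-- all lifted pieces together -/
noncomputable def theta (n : ℕ) :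
    (∀ i : Fin (n + 1), (⋀[R]^(i : ℕ) P') ⊗[R] (⋀[R]^(n - i) P'')) →ₗ[R] ⋀[R]^n P :=
  ∑ i : Fin (n + 1), (mu f (Nat.add_sub_cancel' (Nat.le_of_lt_succ i.2))).comp
    ((lift g s i (n - i)).comp (LinearMap.proj i))

variable (R P' P'') in
/-- tuples vanishing below `i` -/
noncomputable def above (n i : ℕ) :
    Submodule R (∀ k : Fin (n + 1), (⋀[R]^(k : ℕ) P') ⊗[R] (⋀[R]^(n - k) P'')) :=
  ⨅ (k : Fin (n + 1)) (_ : (k : ℕ) < i), LinearMap.ker (LinearMap.proj k)

theorem mem_above {n i : ℕ} {c : ∀ k : Fin (n + 1), (⋀[R]^(k : ℕ) P') ⊗[R] (⋀[R]^(n - k) P'')} :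
    c ∈ above R P' P'' n i ↔ ∀ k : Fin (n + 1), (k : ℕ) < i → c k = 0 := by
  simp [above]

theorem theta_single {n : ℕ} (i : Fin (n + 1)) (c : (⋀[R]^(i : ℕ) P') ⊗[R] (⋀[R]^(n - i) P'')) :
    theta f g s n (Pi.single i c) = mu f (Nat.add_sub_cancel' (Nat.le_of_lt_succ i.2)) (lift g s i (n - i) c) := by
  simp only [theta, LinearMap.sum_apply, LinearMap.comp_apply, LinearMap.proj_apply]
  rw [Finset.sum_eq_single i (fun k _ hk => by rw [Pi.single_eq_of_ne hk, map_zero, map_zero]) (by simp),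
    Pi.single_eq_same]

theorem exists_single {i j n : ℕ} (h : i + j = n) (c : (⋀[R]^i P') ⊗[R] (⋀[R]^j P'')) :
    ∃ C, (∀ k : Fin (n + 1), (k : ℕ) < i → C k = 0) ∧ theta f g s n C = mu f h (lift g s i j c) ∧
      ((∀ k : Fin (n + 1), (k : ℕ) ≤ i → C k = 0) → c = 0) := by
  obtain rfl : j = n - i := by omega
  have hlt : i < n + 1 := by omega
  refine ⟨Pi.single (⟨i, hlt⟩ : Fin (n + 1)) c, fun k hk => Pi.single_eq_of_ne (fun e => ?_) _,
    theta_single (⟨i, hlt⟩ : Fin (n + 1)) c, fun hC => ?_⟩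
  · rw [e] at hk; exact lt_irrefl _ hk
  · simpa using hC ⟨i, hlt⟩ le_rfl

theorem mu_lift_mem {i j n : ℕ} (h : i + j = n) (c : (⋀[R]^i P') ⊗[R] (⋀[R]^j P'')) :
    mu f h (lift g s i j c) ∈ Submodule.map (theta f g s n) (above R P' P'' n i) := by
  obtain ⟨C, h1, h2, -⟩ := exists_single (f := f) (g := g) (s := s) h c
  exact ⟨C, mem_above.2 h1, h2⟩

theorem range_mu_le (hs : Split f g s) (n : ℕ) : ∀ (j i : ℕ) (h : i + j = n),
    LinearMap.range (mu f h) ≤ Submodule.map (theta f g s n) (above R P' P'' n i)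
  | 0, i, h => by
    rintro _ ⟨t, rfl⟩
    rw [← lift_proj_zero (g := g) (s := s) i t]
    exact mu_lift_mem h _
  | j + 1, i, h => by
    rintro _ ⟨t, rfl⟩
    rw [← sub_add_cancel (mu f h t) (mu f h (lift g s i (j + 1) (proj g i (j + 1) t)))]
    refine add_mem ?_ (mu_lift_mem h _)
    refine Submodule.map_mono (fun c hc => mem_above.2 fun k hk => mem_above.1 hc k (by omega))
      (range_mu_le hs n j (i + 1) (by omega) (mu_sub_lift_mem hs h (by omega) t))

theorem theta_surjective (hs : Split f g s) (n : ℕ) : Function.Surjective (theta f g s n) := fun x => by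
  obtain ⟨t, rfl⟩ := mu_zero_surjective f (zero_add n) x
  obtain ⟨c, -, hc⟩ := range_mu_le hs n n 0 (zero_add n) ⟨t, rfl⟩
  exact ⟨c, hc⟩

theorem theta_injective [Module.Free R P'] [Module.Finite R P'] [Module.Free R P''] [Module.Finite R P'']
    (hs : Split f g s) (hf : Function.Injective f) (n : ℕ) : Function.Injective (theta f g s n) := by
  rcases subsingleton_or_nontrivial R with h | h
  · haveI := Module.subsingleton R (∀ i : Fin (n + 1), (⋀[R]^(i : ℕ) P') ⊗[R] (⋀[R]^(n - i) P''))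
    exact fun a b _ => Subsingleton.elim a b
  have hgs : ∀ q, g (s q) = q := LinearMap.congr_fun hs.sec
  have hgf : ∀ p, g (f p) = 0 := LinearMap.congr_fun hs.comp
  let e : (P' × P'') ≃ₗ[R] P := LinearEquiv.ofBijective (f.coprod s) ⟨(injective_iff_map_eq_zero _).2 (fun x hx => by
      have h2 : x.2 = 0 := by simpa [hgf, hgs] using congrArg g hx
      simp only [LinearMap.coprod_apply, h2, map_zero, add_zero] at hx
      exact Prod.ext ((map_eq_zero_iff f hf).1 hx) h2),
    fun x => by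
      obtain ⟨p, hp⟩ := hs.mem x
      exact ⟨(p, g x), by simp [hp]⟩⟩
  haveI : Module.Free R P := Module.Free.of_equiv e
  haveI : Module.Finite R P := Module.Finite.equiv e
  have hrk : Module.finrank R (∀ i : Fin (n + 1), (⋀[R]^(i : ℕ) P') ⊗[R] (⋀[R]^(n - i) P'')) =
      Module.finrank R (⋀[R]^n P) := by
    rw [Module.finrank_pi_fintype, exteriorPower.finrank_eq, ← e.finrank_eq, Module.finrank_prod, Nat.add_choose_eq,
      Finset.Nat.sum_antidiagonal_eq_sum_range_succ_mk, Finset.sum_range]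
    exact Finset.sum_congr rfl fun i _ => by
      rw [Module.finrank_tensorProduct, exteriorPower.finrank_eq, exteriorPower.finrank_eq]
  let b := LinearEquiv.ofFinrankEq _ _ hrk
  exact Function.Injective.of_comp (f := b.symm) (OrzechProperty.injective_of_surjective_endomorphism
    (b.symm.toLinearMap.comp (theta f g s n)) (b.symm.surjective.comp (theta_surjective hs n)))

theorem proj_eq_zero_of_mu [Module.Free R P'] [Module.Finite R P'] [Module.Free R P''] [Module.Finite R P'']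
    (hs : Split f g s) (hf : Function.Injective f) {i j n : ℕ} (h : i + j = n)
    {t : (⋀[R]^i P') ⊗[R] (⋀[R]^j P)} (ht : mu f h t = 0) : proj g i j t = 0 := by
  have hmem : mu f h t - mu f h (lift g s i j (proj g i j t)) ∈
      Submodule.map (theta f g s n) (above R P' P'' n (i + 1)) := by
    cases j with
    | zero => rw [lift_proj_zero, sub_self]; exact zero_mem _
    | succ j => exact range_mu_le hs n j (i + 1) (by omega) (mu_sub_lift_mem hs h (by omega) t)
  rw [ht, zero_sub] at hmem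
  obtain ⟨c, hc, he⟩ := hmem
  obtain ⟨C, -, hC, hCz⟩ := exists_single (f := f) (g := g) (s := s) h (proj g i j t)
  refine hCz fun k hk => ?_
  have h2 : theta f g s n (c + C) = theta f g s n 0 := by
    rw [map_add, map_zero, hC, he]
    exact neg_add_cancel _
  have h3 := congrFun (theta_injective hs hf n h2) k
  rwa [Pi.add_apply, mem_above.1 hc k (Nat.lt_succ_of_le hk), zero_add] at h3

end Rank

end Groth.Agent.ExtFilt28
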